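import Mathlib.RingTheory.TensorProduct.DirectLimitFG
import Mathlib.RingTheory.TensorProduct.Maps
import Mathlib.RingTheory.LocalRing.MaximalIdeal.Basic
import Mathlib.RingTheory.Adjoin.FG
import Mathlib.RingTheory.Ideal.Maximal

/-! Lifting a specialization of a valuation ring descends to a finitely generated subalgebra. -/

set_option autoImplicit false

universe u

open scoped TensorProduct

namespace Groth.Agent.HTopUS

variable (A B V : Type u) [CommRing A] [CommRing B] [Algebra A B] [CommRing V] [Algebra A V]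

/-- The first factor inclusion for a subalgebra of `V`. -/
noncomputable abbrev incl (A₀ : Subalgebra A V) : A₀ →+* A₀ ⊗[A] B := Algebra.TensorProduct.includeLeftRingHom

/-- The map induced by an inclusion of subalgebras. -/
noncomputable abbrev mapVal (A₀ : Subalgebra A V) : A₀ ⊗[A] B →ₐ[A] V ⊗[A] B :=
  Algebra.TensorProduct.map A₀.val (AlgHom.id A B)

/-- The map between two stages. -/
noncomputable abbrev mapIncl {A₀ A₁ : Subalgebra A V} (h : A₀ ≤ A₁) : A₀ ⊗[A] B →ₐ[A] A₁ ⊗[A] B :=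
  Algebra.TensorProduct.map (Subalgebra.inclusion h) (AlgHom.id A B)

variable {A B V}

theorem mapIncl_apply {A₀ A₁ : Subalgebra A V} (h : A₀ ≤ A₁) (x : A₀ ⊗[A] B) :
    mapIncl A B V h x = LinearMap.rTensor B (Subalgebra.inclusion h).toLinearMap x := rfl

theorem mapVal_mapIncl {A₀ A₁ : Subalgebra A V} (h : A₀ ≤ A₁) (x : A₀ ⊗[A] B) :
    mapVal A B V A₁ (mapIncl A B V h x) = mapVal A B V A₀ x := by
  induction x with
  | zero => simp
  | tmul a b => simp
  | add x y hx hy => simp only [map_add, hx, hy]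

variable [IsDomain V] [IsLocalRing V]

/-- A point over the closed point generalizing to one over the generic point, or a finitely generated stage
where there is none. -/
theorem exists_primes_or_stage :
    (∃ Q' Q : Ideal (V ⊗[A] B), Q'.IsPrime ∧ Q.IsPrime ∧ Q' ≤ Q ∧
      Q'.comap (Algebra.TensorProduct.includeLeftRingHom : V →+* V ⊗[A] B) = ⊥ ∧
      Q.comap (Algebra.TensorProduct.includeLeftRingHom : V →+* V ⊗[A] B) = IsLocalRing.maximalIdeal V) ∨
    ∃ A₀ : Subalgebra A V, A₀.FG ∧ ∀ A₁ : Subalgebra A V, A₀ ≤ A₁ →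
      ¬ ∃ Q' Q : Ideal (A₁ ⊗[A] B), Q'.IsPrime ∧ Q.IsPrime ∧ Q' ≤ Q ∧
        Q'.comap (incl A B V A₁) = ⊥ ∧
        Q.comap (incl A B V A₁) = (IsLocalRing.maximalIdeal V).comap A₁.val := by
  classical
  let i : V →+* V ⊗[A] B := Algebra.TensorProduct.includeLeftRingHom
  let m := IsLocalRing.maximalIdeal V
  by_cases hQ : ∃ Q : Ideal (V ⊗[A] B), Q.IsPrime ∧ m.map i ≤ Q ∧ ∀ (s : V) (u : V ⊗[A] B), s ≠ 0 → u ∉ Q →
      u * i s ≠ 0
  · left
    obtain ⟨Q, hQp, hmQ, hQ⟩ := hQ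
    let S : Submonoid (V ⊗[A] B) := (nonZeroDivisors V).map i ⊔ Q.primeCompl
    have hd : Disjoint ((⊥ : Ideal (V ⊗[A] B)) : Set (V ⊗[A] B)) S := Set.disjoint_left.2 fun x hx hxS => by
      obtain ⟨_, ⟨s, hs, rfl⟩, u, hu, rfl⟩ := Submonoid.mem_sup.1 hxS
      exact hQ s u (nonZeroDivisors.ne_zero hs) hu (by rw [mul_comm]; exact hx)
    obtain ⟨Q', hQ'p, -, hQ'S⟩ := Ideal.exists_le_prime_disjoint ⊥ S hd
    refine ⟨Q', Q, hQ'p, hQp, fun x hx => by_contra fun hxQ => ?_, ?_, ?_⟩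
    · exact Set.disjoint_left.1 hQ'S hx (Submonoid.mem_sup_right hxQ)
    · refine eq_bot_iff.2 fun s hs => by_contra fun hs0 => ?_
      exact Set.disjoint_left.1 hQ'S (Ideal.mem_comap.1 hs)
        (Submonoid.mem_sup_left ⟨s, mem_nonZeroDivisors_of_ne_zero hs0, rfl⟩)
    · exact ((IsLocalRing.maximalIdeal.isMaximal V).eq_of_le (Ideal.IsPrime.ne_top inferInstance)
        (Ideal.map_le_iff_le_comap.1 hmQ)).symm
  · right
    push_neg at hQ
    let T : Ideal (V ⊗[A] B) :=
      { carrier := {u | ∃ s : V, s ≠ 0 ∧ u * i s = 0}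
        zero_mem' := ⟨1, one_ne_zero, zero_mul _⟩
        add_mem' := by
          rintro x y ⟨s, hs, hx⟩ ⟨t, ht, hy⟩
          exact ⟨s * t, mul_ne_zero hs ht, by rw [map_mul, add_mul, ← mul_assoc x, hx, mul_comm (i s), ← mul_assoc y, hy]; simp⟩
        smul_mem' := by
          rintro c x ⟨s, hs, hx⟩
          exact ⟨s, hs, by rw [smul_eq_mul, mul_assoc, hx, mul_zero]⟩ }
    have htop : m.map i ⊔ T = ⊤ := by
      by_contra hne
      obtain ⟨Q, hQm, hle⟩ := Ideal.exists_le_maximal _ hne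
      obtain ⟨s, u, hs, hu, he⟩ := hQ Q hQm.isPrime (le_sup_left.trans hle)
      exact hu (hle (Ideal.mem_sup_right ⟨s, hs, he⟩))
    obtain ⟨j, hj, u, ⟨s, hs, hu⟩, hju⟩ := Submodule.mem_sup.1 ((Ideal.eq_top_iff_one _).1 htop)
    have hlift : ∀ x ∈ m.map i, ∃ A₀ : Subalgebra A V, A₀.FG ∧ ∃ j₀ ∈ (m.comap A₀.val).map (incl A B V A₀),
        mapVal A B V A₀ j₀ = x := by
      intro x hj
      clear hju hu
      induction hj using Submodule.span_induction with
      | mem x hx =>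
        obtain ⟨a, ha, rfl⟩ := hx
        exact ⟨Algebra.adjoin A {a}, ⟨{a}, by simp⟩, incl A B V (Algebra.adjoin A {a}) ⟨a, Algebra.self_mem_adjoin_singleton A a⟩,
          Ideal.mem_map_of_mem (incl A B V (Algebra.adjoin A {a})) (show (⟨a, Algebra.self_mem_adjoin_singleton A a⟩ : Algebra.adjoin A {a}) ∈ m.comap (Algebra.adjoin A {a}).val from ha),
          Algebra.TensorProduct.map_tmul _ _ _ _⟩
      | zero => exact ⟨⊥, Subalgebra.fg_bot, 0, Submodule.zero_mem _, map_zero _⟩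
      | add x y _ _ hx hy =>
        obtain ⟨A₁, h₁, x₀, hx₀, rfl⟩ := hx
        obtain ⟨A₂, h₂, y₀, hy₀, rfl⟩ := hy
        refine ⟨A₁ ⊔ A₂, h₁.sup h₂,
          mapIncl A B V (le_sup_left : A₁ ≤ A₁ ⊔ A₂) x₀ + mapIncl A B V (le_sup_right : A₂ ≤ A₁ ⊔ A₂) y₀, ?_, ?_⟩
        · refine Ideal.add_mem _ ?_ ?_
          · refine ((Ideal.map_le_iff_le_comap.2 fun a ha => ?_) : (m.comap A₁.val).map (incl A B V A₁) ≤
              ((m.comap (A₁ ⊔ A₂).val).map (incl A B V _)).comap (mapIncl A B V le_sup_left)) hx₀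
            exact Ideal.mem_map_of_mem (incl A B V (A₁ ⊔ A₂))
              (show Subalgebra.inclusion le_sup_left a ∈ m.comap (A₁ ⊔ A₂).val from ha)
          · refine ((Ideal.map_le_iff_le_comap.2 fun a ha => ?_) : (m.comap A₂.val).map (incl A B V A₂) ≤
              ((m.comap (A₁ ⊔ A₂).val).map (incl A B V _)).comap (mapIncl A B V le_sup_right)) hy₀
            exact Ideal.mem_map_of_mem (incl A B V (A₁ ⊔ A₂))
              (show Subalgebra.inclusion le_sup_right a ∈ m.comap (A₁ ⊔ A₂).val from ha)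
        · simp only [map_add, mapVal_mapIncl]
      | smul c x _ hx =>
        obtain ⟨A₁, h₁, x₀, hx₀, rfl⟩ := hx
        obtain ⟨A₂, h₂, c₀, hc₀⟩ := TensorProduct.Algebra.exists_of_fg c
        refine ⟨A₁ ⊔ A₂, h₁.sup h₂,
          mapIncl A B V (le_sup_right : A₂ ≤ A₁ ⊔ A₂) c₀ * mapIncl A B V (le_sup_left : A₁ ≤ A₁ ⊔ A₂) x₀, ?_, ?_⟩
        · refine Ideal.mul_mem_left _ _ (((Ideal.map_le_iff_le_comap.2 fun a ha => ?_) : (m.comap A₁.val).map (incl A B V A₁) ≤
              ((m.comap (A₁ ⊔ A₂).val).map (incl A B V _)).comap (mapIncl A B V le_sup_left)) hx₀)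
          exact Ideal.mem_map_of_mem (incl A B V (A₁ ⊔ A₂))
            (show Subalgebra.inclusion le_sup_left a ∈ m.comap (A₁ ⊔ A₂).val from ha)
        · rw [map_mul, mapVal_mapIncl, mapVal_mapIncl]
          exact congrArg (· * _) hc₀
    obtain ⟨A₀, hA₀, j₀, hj₀, rfl⟩ := hlift j hj
    -- add the multiplier to the stage, and kill the relation at a further stage
    let A₂ := A₀ ⊔ Algebra.adjoin A {s}
    have hle₀ : A₀ ≤ A₂ := le_sup_left
    let s₂ : A₂ := ⟨s, (le_sup_right : _ ≤ A₂) (Algebra.self_mem_adjoin_singleton A s)⟩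
    let w : A₂ ⊗[A] B := (1 - mapIncl A B V hle₀ j₀) * incl A B V A₂ s₂
    have hw : mapVal A B V A₂ w = 0 := by
      rw [map_mul, map_sub, map_one, mapVal_mapIncl, ← hju, add_sub_cancel_left]
      exact hu
    obtain ⟨B₀, hAB, hB₀, hw'⟩ := TensorProduct.Algebra.eq_of_fg_of_subtype_eq
      (hA₀.sup ⟨{s}, by simp⟩ : A₂.FG) (t := w) (t' := 0) (hw.trans (map_zero _).symm)
    refine ⟨B₀, hB₀, fun A₁ hle ⟨Q', Q, hQ'p, hQp, hQQ, hQ', hQ⟩ => hQp.ne_top ((Ideal.eq_top_iff_one _).2 ?_)⟩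
    let ψ := mapIncl A B V (hAB.trans hle)
    have hjQ : ψ (mapIncl A B V hle₀ j₀) ∈ Q := by
      refine ((Ideal.map_le_iff_le_comap.2 fun a ha => ?_) : (m.comap A₀.val).map (incl A B V A₀) ≤
        Q.comap ((ψ.comp (mapIncl A B V hle₀)))) hj₀
      have : (⟨a.1, (hle₀.trans (hAB.trans hle)) a.2⟩ : A₁) ∈ Q.comap (incl A B V A₁) := by
        rw [hQ]; exact ha
      exact this
    have hwQ : ψ w ∈ Q' := by
      have : ψ w = mapIncl A B V hle (mapIncl A B V hAB w) := by
        induction w using TensorProduct.induction_on with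
        | zero => simp
        | tmul a b => simp [ψ]
        | add x y hx hy => simp only [map_add, hx, hy]
      rw [this, show mapIncl A B V hAB w = 0 from hw'.trans (map_zero _), map_zero]
      exact Q'.zero_mem
    rw [map_mul, map_sub, map_one] at hwQ
    rcases hQ'p.mem_or_mem hwQ with h | h
    · have := Q.add_mem (hQQ h) hjQ
      rwa [sub_add_cancel] at this
    · have : (⟨s, (hAB.trans hle) s₂.2⟩ : A₁) ∈ Q'.comap (incl A B V A₁) := h
      rw [hQ', Ideal.mem_bot] at this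
      exact absurd (congrArg Subtype.val this) hs

end Groth.Agent.HTopUS
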