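import Groth.Agent.HTopUS.Alg
import Groth.Agent.HTopCov.DVR
import Groth.Agent.HTopCov.Spec
import Groth.Agent.HTopCov.Misc
import Mathlib.RingTheory.FiniteType
import Mathlib.AlgebraicGeometry.Morphisms.FiniteType

/-! Universally submersive morphisms of finite type of Noetherian schemes lift valuations. -/

set_option autoImplicit false
set_option backward.isDefEq.respectTransparency false
set_option backward.isDefEq.respectTransparency.types false

universe w u

namespace Groth.Agent.HTopUS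

open CategoryTheory CategoryTheory.Limits AlgebraicGeometry IsLocalRing HTop Groth.Agent.HTopCov
open scoped TensorProduct

variable {X Y T : Scheme.{u}}

/-- Universally submersive morphisms lift specializations of points of locally Noetherian schemes. -/
theorem exists_lift_specializes [IsLocallyNoetherian T] (f : Y ⟶ X) (hf : SGA1.UnivSubmersive f) (h : T ⟶ X)
    {z' z : T} (hz : z' ⤳ z) :
    ∃ q p : ↑(pullback h f), q ⤳ p ∧ pullback.fst h f q = z' ∧ pullback.fst h f p = z := by
  by_cases hne : z = z'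
  · subst hne
    obtain ⟨q, hq⟩ := (hf _ _ _ (IsPullback.of_hasPullback h f)).surjective z
    exact ⟨q, q, specializes_rfl, hq, hq⟩
  obtain ⟨R, h₀, hR, hcl, hgen⟩ := Groth.Agent.S4450.result (𝟙 T) z' z hz hne
  haveI := hR
  haveI : IsDiscreteValuationRing (CommRingCat.of R) := hR
  obtain ⟨q, p, hqp, hq, hp⟩ := exists_specializes_of_isQuotientMap (pullback.fst (h₀ ≫ h) f)
    (hf _ _ _ (IsPullback.of_hasPullback (h₀ ≫ h) f))
  let m : pullback (h₀ ≫ h) f ⟶ pullback h f :=
    pullback.lift (pullback.fst _ _ ≫ h₀) (pullback.snd _ _) (by rw [Category.assoc, pullback.condition])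
  have hm : m ≫ pullback.fst h f = pullback.fst _ _ ≫ h₀ := pullback.lift_fst _ _ _
  refine ⟨m q, m p, hqp.map m.continuous, ?_, ?_⟩
  · rw [← Scheme.Hom.comp_apply, hm, Scheme.Hom.comp_apply, hq]
    let k : PrimeSpectrum (T.residueField z') := ⊥
    have e' : (Spec.map (CommRingCat.ofHom R.subtype)) k = (⊥ : PrimeSpectrum R) :=
      PrimeSpectrum.ext ((RingHom.injective_iff_ker_eq_bot R.subtype).mp Subtype.val_injective)
    refine (congrArg h₀ e'.symm).trans ?_
    rw [← Scheme.Hom.comp_apply, hgen, Category.comp_id]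
    exact Scheme.fromSpecResidueField_apply _ _
  · rw [← Scheme.Hom.comp_apply, hm, Scheme.Hom.comp_apply, hp]
    exact hcl

/-- Universally submersive quasi-compact morphisms to a locally Noetherian scheme lift valuation rings. -/
theorem hasValLift [IsLocallyNoetherian X] (f : Y ⟶ X) [QuasiCompact f] (hf : SGA1.UnivSubmersive f) :
    HasValLift (PreZeroHypercover.singleton.{w} f) := by
  classical
  intro V _ _ g
  suffices ∃ q p : ↑(pullback g f), q ⤳ p ∧ pullback.fst g f q = (⊥ : PrimeSpectrum V) ∧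
      pullback.fst g f p = closedPoint V by
    obtain ⟨q, p, hqp, hq, hp⟩ := this
    obtain ⟨W, hW, hW', φ, l, hφ, hl, -⟩ := exists_ext_of_points (pullback.fst g f) hqp hq hp
    refine ⟨W, hW, hW', φ, hφ, PUnit.unit, l ≫ pullback.snd g f, ?_⟩
    change (l ≫ pullback.snd g f) ≫ f = _
    rw [Category.assoc, ← pullback.condition, ← Category.assoc, hl]
  -- an affine chart around the closed point
  obtain ⟨U, hU, hxU, -⟩ := exists_isAffineOpen_mem_and_subset (U := ⊤) (x := g (closedPoint V)) trivial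
  let A : CommRingCat.{u} := Γ(X, U)
  let e : Spec A ⟶ X := hU.fromSpec
  haveI : IsNoetherianRing A := IsLocallyNoetherian.component_noetherian ⟨U, hU⟩
  obtain ⟨g', hg'⟩ := exists_lift_of_closedPoint e g (by
    change g (closedPoint V) ∈ Set.range hU.fromSpec
    rw [hU.range_fromSpec]; exact hxU)
  obtain ⟨ι, rfl⟩ : ∃ ι, Spec.map ι = g' := ⟨_, Spec.map_preimage g'⟩
  letI : Algebra A V := ι.hom.toAlgebra
  -- a finite affine cover of the preimage
  haveI : CompactSpace ↑(pullback f e) := QuasiCompact.compactSpace_of_compactSpace (pullback.snd f e)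
  let C := (pullback f e).affineCover.finiteSubcover
  haveI : ∀ k, IsAffine (C.X k) := fun k => inferInstanceAs (IsAffine ((pullback f e).affineCover.X _))
  let B : C.I₀ → CommRingCat.{u} := fun k => Γ(C.X k, ⊤)
  let c : ∀ k, Spec (B k) ⟶ pullback f e := fun k => (C.X k).isoSpec.inv ≫ C.f k
  have hc : ∀ z, ∃ k y, c k y = z := fun z => by
    obtain ⟨k, y, rfl⟩ := C.exists_eq z
    refine ⟨k, (C.X k).isoSpec.hom y, ?_⟩
    rw [← Scheme.Hom.comp_apply, (C.X k).isoSpec.hom_inv_id_assoc]
  haveI : ∀ k, IsOpenImmersion (c k) := fun k => by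
    haveI : IsOpenImmersion (C.f k) := C.map_prop k
    infer_instance
  let φ : ∀ k, A ⟶ B k := fun k => Spec.preimage (c k ≫ pullback.snd f e)
  have hφ : ∀ k, Spec.map (φ k) = c k ≫ pullback.snd f e := fun k => Spec.map_preimage _
  letI : ∀ k, Algebra A (B k) := fun k => (φ k).hom.toAlgebra
  -- the points of a stage
  by_cases hgood : ∃ (k : C.I₀) (Q' Q : Ideal (V ⊗[A] B k)), Q'.IsPrime ∧ Q.IsPrime ∧ Q' ≤ Q ∧
      Q'.comap (Algebra.TensorProduct.includeLeftRingHom : V →+* V ⊗[A] B k) = ⊥ ∧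
      Q.comap (Algebra.TensorProduct.includeLeftRingHom : V →+* V ⊗[A] B k) = maximalIdeal V
  · obtain ⟨k, Q', Q, hQ', hQ, hle, h0, hm⟩ := hgood
    let m : Spec (CommRingCat.of (V ⊗[A] B k)) ⟶ pullback g f :=
      pullback.lift (Spec.map (CommRingCat.ofHom Algebra.TensorProduct.includeLeftRingHom))
        (Spec.map (CommRingCat.ofHom Algebra.TensorProduct.includeRight.toRingHom) ≫ c k ≫ pullback.fst f e) (by
          rw [← hg']
          simp only [Category.assoc, pullback.condition]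
          rw [← reassoc_of% (hφ k), ← Spec.map_comp_assoc, ← Spec.map_comp_assoc]
          congr 2
          ext a
          exact (Algebra.TensorProduct.includeLeft.commutes a).trans
            ((Algebra.TensorProduct.includeRight (R := A) (A := V) (B := B k)).commutes a).symm)
    refine ⟨m (⟨Q', hQ'⟩ : PrimeSpectrum _), m (⟨Q, hQ⟩ : PrimeSpectrum _),
      ((PrimeSpectrum.le_iff_specializes _ _).1 hle).map m.continuous, ?_, ?_⟩
    · rw [← Scheme.Hom.comp_apply, pullback.lift_fst]
      exact PrimeSpectrum.ext h0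
    · rw [← Scheme.Hom.comp_apply, pullback.lift_fst]
      exact PrimeSpectrum.ext hm
  · exfalso
    have hst : ∀ k, ∃ A₀ : Subalgebra A V, A₀.FG ∧ ∀ A₁ : Subalgebra A V, A₀ ≤ A₁ →
        ¬ ∃ Q' Q : Ideal (A₁ ⊗[A] B k), Q'.IsPrime ∧ Q.IsPrime ∧ Q' ≤ Q ∧
          Q'.comap (incl A (B k) V A₁) = ⊥ ∧
          Q.comap (incl A (B k) V A₁) = (maximalIdeal V).comap A₁.val := fun k =>
      (exists_primes_or_stage (A := A) (B := B k) (V := V)).resolve_left fun h => hgood ⟨k, h⟩
    choose A₀ hA₀ hbad using hst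
    haveI : Fintype C.I₀ := Fintype.ofFinite _
    let A₁ : Subalgebra A V := Algebra.adjoin A ((Finset.univ.biUnion fun k => (hA₀ k).choose : Finset V) : Set V)
    have hA₁ : A₁.FG := Subalgebra.fg_adjoin_finset _
    have hle : ∀ k, A₀ k ≤ A₁ := fun k => by
      rw [← (hA₀ k).choose_spec]
      exact Algebra.adjoin_mono fun x hx => Finset.mem_biUnion.2 ⟨k, Finset.mem_univ _, hx⟩
    haveI : Algebra.FiniteType A A₁ := A₁.fg_iff_finiteType.1 hA₁
    haveI : IsNoetherianRing A₁ := Algebra.FiniteType.isNoetherianRing A A₁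
    haveI : IsNoetherianRing (CommRingCat.of A₁) := inferInstanceAs (IsNoetherianRing A₁)
    haveI : ((maximalIdeal V).comap A₁.val).IsPrime := Ideal.comap_isPrime _ _
    let z : PrimeSpectrum A₁ := ⟨(maximalIdeal V).comap A₁.val, inferInstance⟩
    let z' : PrimeSpectrum A₁ := ⟨⊥, Ideal.bot_prime⟩
    let a : Spec (CommRingCat.of A₁) ⟶ Spec A := Spec.map (CommRingCat.ofHom (algebraMap A A₁))
    obtain ⟨q, p, hqp, hq, hp⟩ := exists_lift_specializes f hf (a ≫ e) (z' := z') (z := z)
      ((PrimeSpectrum.le_iff_specializes z' z).1 (show (⊥ : Ideal A₁) ≤ _ from bot_le))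
    let m₁ : pullback (a ≫ e) f ⟶ pullback f e :=
      pullback.lift (pullback.snd _ _) (pullback.fst _ _ ≫ a) (by rw [Category.assoc, ← pullback.condition])
    obtain ⟨k, y, hy⟩ := hc (m₁ p)
    let O := m₁ ⁻¹ᵁ (c k).opensRange
    have hpO : p ∈ O := ⟨y, hy⟩
    have hqO : q ∈ O := hqp.mem_open O.isOpen hpO
    let l : (O : Scheme.{u}) ⟶ Spec (B k) := IsOpenImmersion.lift (c k) (O.ι ≫ m₁) (by
      rintro _ ⟨x, rfl⟩; exact x.2)
    let m₂ : (O : Scheme.{u}) ⟶ Spec (CommRingCat.of (A₁ ⊗[A] B k)) :=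
      pullback.lift (f := Spec.map (CommRingCat.ofHom (algebraMap A A₁)))
        (g := Spec.map (CommRingCat.ofHom (algebraMap A (B k)))) (O.ι ≫ pullback.fst _ _) l (by
          rw [show CommRingCat.ofHom (algebraMap A (B k)) = φ k from rfl, hφ, IsOpenImmersion.lift_fac_assoc,
            Category.assoc, Category.assoc, pullback.lift_snd]) ≫ (pullbackSpecIso A A₁ (B k)).hom
    have hm₂ : m₂ ≫ Spec.map (CommRingCat.ofHom (incl A (B k) V A₁)) = O.ι ≫ pullback.fst _ _ := by
      rw [Category.assoc, pullbackSpecIso_hom_fst, pullback.lift_fst]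
    have hQ : ∀ (x : ↥O) (w : PrimeSpectrum A₁), pullback.fst (a ≫ e) f x.1 = w →
        (m₂ x).asIdeal.comap (incl A (B k) V A₁) = w.asIdeal := fun x w hx => by
      subst hx
      exact congrArg PrimeSpectrum.asIdeal congr($hm₂ x)
    refine hbad k A₁ (hle k) ⟨(m₂ ⟨q, hqO⟩).asIdeal, (m₂ ⟨p, hpO⟩).asIdeal, (m₂ ⟨q, hqO⟩).isPrime, (m₂ ⟨p, hpO⟩).isPrime,
      ?_, hQ ⟨q, hqO⟩ z' hq, hQ ⟨p, hpO⟩ z hp⟩
    exact (PrimeSpectrum.le_iff_specializes _ _).2 (((subtype_specializes_iff _ _).2 hqp : (⟨q, hqO⟩ : ↥O) ⤳ ⟨p, hpO⟩).map m₂.continuous)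

end Groth.Agent.HTopUS
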